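import Groth.Agent.Lib.Cyc26.DegC1
import Mathlib

/-!
# The degree of a finite local order as a weighted sum of orders of vanishing
-/

set_option autoImplicit false
set_option linter.style.haveILetI false
set_option linter.unusedSectionVars false

universe u

open IsLocalRing

namespace Groth.Agent.HorizDiv

/-- If the uniformizer factors in a finite free local domain with algebraically closed residue field below, the rank
is the weighted sum of the orders of the factors. -/
theorem exists_weights {R A : Type u} [CommRing R] [IsDomain R] [IsDiscreteValuationRing R]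
    [IsAlgClosed (ResidueField R)] [CommRing A] [IsDomain A] [IsLocalRing A] [Algebra R A] [Module.Finite R A]
    [Module.Free R A] {π : R} (hπ : Irreducible π) {ι : Type*} [Fintype ι] (g : ι → A) (m : ι → ℕ)
    (hm : ∀ i, 0 < m i) (hg : ∀ i, g i ∈ maximalIdeal A)
    (h : Associated (∏ i, g i ^ m i) (algebraMap R A π)) (h0 : algebraMap R A π ≠ 0) :
    ∃ c : ι → ℕ, (∀ i, 1 ≤ c i) ∧ Module.finrank R A = ∑ i, c i * m i := by
  classical
  have hsum : Ring.ord A (algebraMap R A π) = ∑ i, (m i) • Ring.ord A (g i) := by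
    rw [← Ring.ord_eq_of_associated h]
    have hne : ∏ i, g i ^ m i ≠ 0 := fun e => h0 (associated_zero_iff_eq_zero _ |>.1 (e ▸ h.symm))
    have key : ∀ s : Finset ι, Ring.ord A (∏ i ∈ s, g i ^ m i) = ∑ i ∈ s, (m i) • Ring.ord A (g i) := fun s => by
      induction s using Finset.induction_on with
      | empty => simp [Ring.ord_one]
      | insert i s hi ih =>
        have hgi : g i ≠ 0 := fun e => hne (Finset.prod_eq_zero (Finset.mem_univ i)
          (by rw [e, zero_pow (hm i).ne']))
        rw [Finset.prod_insert hi, Finset.sum_insert hi, Ring.ord_mul',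
          Ring.ord_pow (mem_nonZeroDivisors_of_ne_zero hgi), ih]
        exact mem_nonZeroDivisors_of_ne_zero (pow_ne_zero _ hgi)
    exact key Finset.univ
  -- the order of the uniformizer is the rank
  let k := R ⧸ maximalIdeal R
  letI : Field k := Ideal.Quotient.field _
  let J : Ideal A := Ideal.map (algebraMap R A) (maximalIdeal R)
  have hJ : J = Ideal.span {algebraMap R A π} := by
    show Ideal.map (algebraMap R A) (maximalIdeal R) = _
    rw [hπ.maximalIdeal_eq, Ideal.map_span, Set.image_singleton]
  have hJtop : J ≠ ⊤ := by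
    intro e
    have h1 := finrank_quotient_map (R := R) (S := A)
    haveI : Subsingleton (A ⧸ J) := Ideal.Quotient.subsingleton_iff.2 e
    haveI : Subsingleton (A ⧸ Ideal.map (algebraMap R A) (maximalIdeal R)) := ‹Subsingleton (A ⧸ J)›
    rw [Module.finrank_zero_of_subsingleton] at h1
    exact absurd h1.symm Module.finrank_pos.ne'
  haveI : Nontrivial (A ⧸ J) := Ideal.Quotient.nontrivial_iff.2 hJtop
  haveI : IsLocalRing (A ⧸ J) := IsLocalRing.of_surjective' (Ideal.Quotient.mk J) Ideal.Quotient.mk_surjective
  haveI : Module.Finite k (A ⧸ J) := Module.Finite.of_restrictScalars_finite R _ _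
  haveI : Module.Finite k (ResidueField (A ⧸ J)) :=
    Module.Finite.of_surjective (IsScalarTower.toAlgHom k (A ⧸ J) (ResidueField (A ⧸ J))).toLinearMap
      IsLocalRing.residue_surjective
  haveI : IsAlgClosed k := ‹IsAlgClosed (ResidueField R)›
  have hres : Module.finrank k (ResidueField (A ⧸ J)) = 1 := by
    have hb : Function.Bijective (algebraMap k (ResidueField (A ⧸ J))) :=
      ⟨(algebraMap k (ResidueField (A ⧸ J))).injective, IsAlgClosed.algebraMap_bijective_of_isIntegral.2⟩
    rw [← (LinearEquiv.ofBijective (Algebra.linearMap k (ResidueField (A ⧸ J))) hb).finrank_eq,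
      Module.finrank_self]
  have hd : (Module.length (A ⧸ J) (A ⧸ J)).toNat = Module.finrank R A := by
    have h1 := Cyc26.finrank_eq_length_mul (k := k) (R := A ⧸ J) (M := A ⧸ J)
    rw [hres, mul_one, finrank_quotient_map] at h1
    exact h1.symm
  haveI : IsArtinianRing (A ⧸ J) := IsArtinianRing.of_finite k (A ⧸ J)
  have htop : Module.length (A ⧸ J) (A ⧸ J) ≠ ⊤ := Module.length_ne_top_iff.mpr
    (isFiniteLength_iff_isNoetherian_isArtinian.mpr ⟨inferInstance, inferInstance⟩)
  have hord : Ring.ord A (algebraMap R A π) = (Module.finrank R A : ℕ∞) := by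
    have e : Ring.ord A (algebraMap R A π) = Module.length (A ⧸ J) (A ⧸ J) := by
      rw [hJ]
      exact Module.length_eq_of_surjective Ideal.Quotient.mk_surjective
    rw [e, ← hd, ENat.natCast_toNat htop]
  rw [hsum] at hord
  have hfin : ∀ i, Ring.ord A (g i) ≠ ⊤ := fun i e => by
    have h1 : (m i) • Ring.ord A (g i) ≤ ∑ j, (m j) • Ring.ord A (g j) :=
      Finset.single_le_sum (f := fun j => (m j) • Ring.ord A (g j)) (fun _ _ => bot_le) (Finset.mem_univ i)
    rw [e, hord, nsmul_eq_mul, ENat.mul_top (by exact_mod_cast (hm i).ne')] at h1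
    exact absurd (top_le_iff.1 h1) (ENat.natCast_ne_top _)
  refine ⟨fun i => (Ring.ord A (g i)).toNat, fun i => ?_, ?_⟩
  · haveI : Nontrivial (A ⧸ Ideal.span {g i}) := Ideal.Quotient.nontrivial_iff.2 fun e =>
      (hg i) (Ideal.span_singleton_eq_top.1 e)
    have hpos : 0 < Ring.ord A (g i) := Module.length_pos_iff.2 inferInstance
    have h2 : ((Ring.ord A (g i)).toNat : ℕ∞) ≠ 0 := by
      rw [ENat.natCast_toNat (hfin i)]; exact hpos.ne'
    exact Nat.one_le_iff_ne_zero.2 (by exact_mod_cast h2)
  · have h3 : ((Module.finrank R A : ℕ) : ℕ∞) = ((∑ i, (Ring.ord A (g i)).toNat * m i : ℕ) : ℕ∞) := by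
      rw [← hord, Nat.cast_sum]
      refine Finset.sum_congr rfl fun i _ => ?_
      rw [Nat.cast_mul, ENat.natCast_toNat (hfin i), nsmul_eq_mul, mul_comm]
    exact_mod_cast h3

end Groth.Agent.HorizDiv
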