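import Groth.Agent.Lib.HorizDiv32.Local
import Groth.Agent.Lib.MinModel32.Basic
import Groth.Agent.Lib.IndexMult.Fibre
import Groth.Agent.Lib.IndexMult.Index
import Groth.Agent.Lib.WeilH13.Count
import Groth.Prelude.Def_CurvBase
import Mathlib

/-!
# The degree of a horizontal divisor meeting the closed fibre in one point
-/

set_option autoImplicit false
set_option linter.style.haveILetI false
set_option linter.unusedSectionVars false
set_option backward.isDefEq.respectTransparency false
set_option maxHeartbeats 1000000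

universe u

open CategoryTheory CategoryTheory.Limits AlgebraicGeometry TopologicalSpace

namespace Groth.Agent.HorizDiv

variable {R : Type u} [CommRing R] [IsDomain R] [IsDiscreteValuationRing R]

/-- Every vertical prime divisor is a component of the closed fibre. -/
theorem range_mem_components {XR : Over (Spec (CommRingCat.of R))} [IsIntegral XR.left] [IsProper XR.hom] [Flat XR.hom]
    {C : Scheme.{u}} {f : C ⟶ Spec (CommRingCat.of (FractionRing R))}
    (hC : Curve.IsSmoothProperCurve (FractionRing R) C f) (i : C ⟶ XR.left)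
    (hi : IsPullback i f XR.hom (Spec.map (CommRingCat.ofHom (algebraMap R (FractionRing R)))))
    (Γ : ArSurf.VertComp R XR) : Set.range Γ.ι.base ∈ Models.fibreComponents R XR := by
  haveI := hC.2.2.1
  haveI := Γ.isClosedImmersion
  haveI := Γ.isIntegral
  have hr := ArInter.range_eq_closure Γ
  have hnc : ¬ IsClosed ({Models.genPtOf R XR Γ} : Set XR.left) := fun h => by
    have h' : IsClosed ({genericPoint Γ.curve.left} : Set Γ.curve.left) := by
      have := h.preimage Γ.ι.continuous
      rwa [Models.genPtOf, ← Set.image_singleton, Set.preimage_image_eq _ Γ.ι.isClosedEmbedding.injective] at this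
    haveI : Subsingleton Γ.curve.left := ⟨fun a b => by
      have h1 := ((genericPoint_specializes a).mem_closed h' rfl : a = genericPoint Γ.curve.left)
      have h2 := ((genericPoint_specializes b).mem_closed h' rfl : b = genericPoint Γ.curve.left)
      rw [h1, h2]⟩
    have h0 : topologicalKrullDim Γ.curve.left ≤ 0 := by
      haveI : Subsingleton (IrreducibleCloseds Γ.curve.left) := ⟨fun A B => IrreducibleCloseds.ext (by
          obtain ⟨a, ha⟩ := A.isIrreducible'.nonempty
          obtain ⟨b, hb⟩ := B.isIrreducible'.nonempty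
          ext w
          exact ⟨fun _ => Subsingleton.elim b w ▸ hb, fun _ => Subsingleton.elim a w ▸ ha⟩)⟩
      exact Order.krullDim_nonpos_of_subsingleton
    rw [Γ.dim_eq] at h0
    exact absurd h0 (by decide)
  have hm := (ModelDom.isMaxPt_or_isClosed hC i hi (ArInter.genPtOf_mem_specialFibreSet Γ)).resolve_right hnc
  rw [hr]
  exact (ModelDom.isMaxPt_iff_component _).1 hm

variable [IsAlgClosed (IsLocalRing.ResidueField R)]
  {C : Scheme.{u}} [C.Over (Spec (CommRingCat.of (FractionRing R)))]
  {XR : Over (Spec (CommRingCat.of R))} [IsIntegral XR.left] [IsProper XR.hom] [Flat XR.hom]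

theorem exists_degree_eq
    (hC : Curve.IsSmoothProperCurve (FractionRing R) C (C ↘ Spec (CommRingCat.of (FractionRing R))))
    (hC0 : IsIso (C ↘ Spec (CommRingCat.of (FractionRing R))).appTop)
    (hreg : ∀ y : XR.left, IsRegularLocalRing (XR.left.presheaf.stalk y))
    (iX : C ⟶ XR.left)
    (hiX : IsPullback iX (C ↘ Spec (CommRingCat.of (FractionRing R))) XR.hom
      (Spec.map (CommRingCat.ofHom (algebraMap R (FractionRing R)))))
    (x : XR.left) (hxs : x ∈ Models.specialFibreSet R XR) {n : ℕ} (Γ : Fin n → ArSurf.VertComp R XR)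
    (hinj : Function.Injective fun i => Set.range ((Γ i).ι.base : (Γ i).curve.left → XR.left))
    (hΓ : ∀ Z ∈ Models.fibreComponents R XR,
      x ∈ Z ↔ ∃ i, Set.range ((Γ i).ι.base : (Γ i).curve.left → XR.left) = Z)
    (P : C) (hPx : closure ({iX.base P} : Set XR.left) ∩ Models.specialFibreSet R XR = {x}) :
    letI := Curv2.resAlgebra (FractionRing R) C P
    ∃ c : Fin n → ℕ, (∀ i, 1 ≤ c i) ∧
      Module.finrank (FractionRing R) (C.residueField P) = ∑ i, c i * Models.mult R XR (Γ i) := by
  classical
  let fC := C ↘ Spec (CommRingCat.of (FractionRing R))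
  obtain ⟨π, hπ⟩ := IsDiscreteValuationRing.exists_irreducible R
  haveI : IsOpenImmersion iX := ArInter.isOpenImmersion_generic (p := XR.hom) hiX
  have hP : ArInter.IsPre XR := ModelDom.isPre
  haveI := ArInter.isNoetherian_left hP
  haveI := hC.2.2.1
  have hM : Models.IsRegularProperModel R XR.left XR.hom C fC :=
    ⟨⟨inferInstance, inferInstance, inferInstance, iX, hiX⟩, inferInstance, hreg⟩
  have hcomp := fun i => range_mem_components hC iX hiX (Γ i)
  have hxi : ∀ i, x ∈ Set.range (Γ i).ι.base := fun i => (hΓ _ (hcomp i)).2 ⟨i, rfl⟩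
  have hE : ∀ i, BlowUp.IsEffCartierIdeal (Γ i).ι.ker := fun i => by
    obtain ⟨N, Δ, hΔ⟩ := MinModel.exists_componentList hC hM hC0
    obtain ⟨j, hj⟩ := hΔ.2.ge (hcomp i)
    rw [ArInter.ker_eq_of_range_eq (Γ := Γ i) (Δ := Δ j) hj.symm]
    exact ArInter.isEffCartierIdeal_component hP hreg hΔ j
  obtain ⟨a, Q, hZ, hQ, hapos, hno⟩ := ArInter.exists_decomp hP hπ Γ hE hinj
  -- nothing else of the fibre passes through `x`
  have hQx : DivDesc12.stI Q x = ⊤ := by
    refine ArInter.stI_eq_top_of_notMem fun hxQ => ?_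
    obtain ⟨y, hy, hyx, hymax⟩ := SecDiv.exists_maximal_generisation Q hxQ
    have hy1 := SecDiv.ringKrullDim_generic hQ hy hymax
    have hyF : y ∈ Models.specialFibreSet R XR := by
      refine (ArInter.mem_support_fibreIdeal hπ y).1 ?_
      rw [hZ, Scheme.IdealSheafData.support_mul]
      exact Or.inr hy
    have hmax : ModelDom.IsMaxPt (X := XR) y := by
      refine ⟨hyF, fun w hw hwy => ?_⟩
      by_contra hne
      have hgen : genericPoint XR.left ∉ Models.specialFibreSet R XR := fun h => by
        have h1 : iX (genericPoint C) ∈ Models.specialFibreSet R XR :=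
          (genericPoint_specializes (iX (genericPoint C))).mem_closed (Models.isClosed_specialFibreSet R XR) h
        have h2 : iX (genericPoint C) ∈ Set.range iX := by
          haveI := hC.2.2.1
          exact ⟨_, rfl⟩
        rw [MinModel.range_eq_of_isPullback (p := XR.hom) hiX] at h2
        exact h2 h1
      have h2 := PointBlowUp.two_le_ringKrullDim_stalk (genericPoint_specializes w) hwy
        (fun e => hgen (e ▸ hw)) hne
      rw [hy1] at h2
      exact absurd h2 (by decide)
    obtain ⟨i, hi⟩ := (hΓ _ ((ModelDom.isMaxPt_iff_component _).1 hmax)).1 (specializes_iff_mem_closure.1 hyx)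
    rw [ArInter.range_eq_closure] at hi
    refine hno i ?_
    have he : Models.genPtOf R XR (Γ i) = y :=
      ((specializes_iff_mem_closure.2 (hi ▸ subset_closure rfl : y ∈ closure {Models.genPtOf R XR (Γ i)})).antisymm
        (specializes_iff_mem_closure.2 (hi.symm ▸ subset_closure rfl :
          Models.genPtOf R XR (Γ i) ∈ closure {y}))).eq
    exact he ▸ hy
  -- equations at `x`
  choose Ui hxU fi hfi hnz hfm _ using fun i =>
    SecDiv.exists_stalk_eqn (hE i) (x := x) ((ArInter.coe_support_ker (Γ i)).ge (hxi i))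
  let S := XR.left.presheaf.stalk x
  let g : Fin n → S := fun i => XR.left.presheaf.germ (Ui i).1 x (hxU i) (fi i)
  have hgI : ∀ i, DivDesc12.stI (Γ i).ι.ker x = Ideal.span {g i} := fun i => by
    rw [DivDesc12.stI_eq _ (Ui i) (hxU i), hfi i, Ideal.map_span, Set.image_singleton]
  have hass : Associated (∏ i, g i ^ a i) (Models.stalkHom R XR x π) := by
    refine Ideal.span_singleton_eq_span_singleton.1 ?_
    rw [← ArInter.stI_fibreIdeal, hZ, ArInter.stI_mul, hQx, Ideal.mul_top, ArInter.stI_finsetProd]
    simp only [hgI, Ideal.span_singleton_pow, Ideal.prod_span_singleton]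
  -- the affine neighbourhood
  obtain ⟨U, hU, hxU'⟩ := DivDesc12.exists_affine x
  let P' : XR.left := iX P
  have hPF : P' ∉ Models.specialFibreSet R XR := fun h => by
    have h2 : P' ∈ Set.range iX := ⟨P, rfl⟩
    rw [MinModel.range_eq_of_isPullback (p := XR.hom) hiX] at h2
    exact h2 h
  have hPx' : P' ⤳ x := specializes_iff_mem_closure.2 (hPx.ge rfl).1
  have hclosed : ∀ z, P' ⤳ z → IsClosed ({z} : Set XR.left) → z = x := fun z hz hzc =>
    hPx.le ⟨specializes_iff_mem_closure.1 hz, MinModel.closed_over XR.hom hzc⟩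
  have hsub : ∀ z, P' ⤳ z → z ∈ U := fun z hz => by
    obtain ⟨w, hw, hwc⟩ := IsClosed.exists_closed_singleton (isClosed_closure (s := ({z} : Set XR.left)))
      ⟨_, subset_closure rfl⟩
    have hzw := specializes_iff_mem_closure.2 hw
    exact (hclosed w (hz.trans hzw) hwc ▸ hzw : z ⤳ x).mem_open U.2 hxU'
  have hP'U : P' ∈ U := hsub P' specializes_rfl
  let B : Type u := Γ(XR.left, U)
  let qpt := hU.primeIdealOf ⟨P', hP'U⟩
  let q : Ideal B := qpt.asIdeal
  haveI : q.IsPrime := qpt.isPrime
  let mpt := hU.primeIdealOf ⟨x, hxU'⟩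
  haveI : mpt.asIdeal.IsPrime := mpt.isPrime
  let A : Type u := B ⧸ q
  let ζ : Spec (CommRingCat.of A) ⟶ XR.left :=
    Spec.map (CommRingCat.ofHom (Ideal.Quotient.mk q)) ≫ hU.fromSpec
  haveI : IsClosedImmersion (Spec.map (CommRingCat.ofHom (Ideal.Quotient.mk q))) :=
    IsClosedImmersion.spec_of_surjective _ Ideal.Quotient.mk_surjective
  have hζr : Set.range ζ = closure {P'} := by
    show Set.range (Spec.map (CommRingCat.ofHom (Ideal.Quotient.mk q)) ≫ hU.fromSpec) = _
    rw [Scheme.Hom.comp_base, TopCat.coe_comp, Set.range_comp]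
    have e1 : Set.range (Spec.map (CommRingCat.ofHom (Ideal.Quotient.mk q))) =
        closure ({qpt} : Set (Spec Γ(XR.left, U))) := by
      refine (range_comap_of_surjective (B ⧸ q) (Ideal.Quotient.mk q) Ideal.Quotient.mk_surjective).trans ?_
      rw [Ideal.mk_ker]
      exact (PrimeSpectrum.closure_singleton qpt).symm
    rw [e1]
    apply Set.Subset.antisymm
    · refine (image_closure_subset_closure_image hU.fromSpec.continuous).trans ?_
      rw [Set.image_singleton, IsAffineOpen.fromSpec_primeIdealOf]
    · intro z hz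
      have hzU : z ∈ Set.range hU.fromSpec := by
        rw [IsAffineOpen.range_fromSpec]; exact hsub z (specializes_iff_mem_closure.2 hz)
      obtain ⟨w, rfl⟩ := hzU
      refine ⟨w, specializes_iff_mem_closure.1 ?_, rfl⟩
      rw [← hU.fromSpec.isOpenEmbedding.isInducing.specializes_iff, IsAffineOpen.fromSpec_primeIdealOf]
      exact specializes_iff_mem_closure.2 hz
  haveI : IsClosedImmersion ζ := IsClosedImmersion.of_isPreimmersion ζ (hζr ▸ isClosed_closure)
  let φR : R →+* B := ((Scheme.ΓSpecIso (CommRingCat.of R)).inv ≫ XR.hom.appLE ⊤ U le_top).hom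
  letI : Algebra R A := ((Ideal.Quotient.mk q).comp φR).toAlgebra
  have hζp : ζ ≫ XR.hom = Spec.map (CommRingCat.ofHom (algebraMap R A)) := by
    have e := IsAffineOpen.SpecMap_appLE_fromSpec XR.hom (isAffineOpen_top (Spec (CommRingCat.of R))) hU le_top
    simp only [ζ, Category.assoc, ← e, IsAffineOpen.fromSpec_top, Scheme.isoSpec_Spec_inv, ← Spec.map_comp]
    rfl
  haveI : Module.Finite R A := by
    have h1 : IsFinite (ζ ≫ XR.hom) := by
      haveI : IsProper (ζ ≫ XR.hom) := inferInstance
      haveI : IsAffineHom (ζ ≫ XR.hom) := by rw [hζp]; infer_instance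
      exact (IsFinite.iff_isIntegralHom_and_locallyOfFiniteType _).2
        ⟨IsIntegralHom.iff_universallyClosed_and_isAffineHom.2 ⟨inferInstance, inferInstance⟩, inferInstance⟩
    rw [hζp] at h1
    exact (IsFinite.SpecMap_iff (CommRingCat.ofHom (algebraMap R A))).1 h1
  have hζclosed : ∀ w : Spec (CommRingCat.of A), IsClosed ({w} : Set (Spec (CommRingCat.of A))) → ζ w = x := fun w hw =>
    hclosed _ (specializes_iff_mem_closure.2 (hζr.le ⟨w, rfl⟩)) (by
      rw [← Set.image_singleton]; exact ζ.isClosedEmbedding.isClosedMap _ hw)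
  have hcomap : ∀ w : Spec (CommRingCat.of A), ζ w = x →
      Ideal.comap (Ideal.Quotient.mk q) (w : PrimeSpectrum A).asIdeal = mpt.asIdeal := fun w hw => by
    have h1 : Spec.map (CommRingCat.ofHom (Ideal.Quotient.mk q)) w = mpt := by
      apply hU.fromSpec.isOpenEmbedding.injective
      rw [IsAffineOpen.fromSpec_primeIdealOf]
      exact hw
    exact congrArg PrimeSpectrum.asIdeal h1
  haveI : IsDomain A := Ideal.Quotient.isDomain q
  obtain ⟨w₀, hw₀⟩ : x ∈ Set.range ζ := hζr ▸ specializes_iff_mem_closure.1 hPx'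
  haveI : IsLocalRing A := by
    refine IsLocalRing.of_unique_max_ideal ⟨(w₀ : PrimeSpectrum A).asIdeal, ?_, fun J hJ => ?_⟩
    · obtain ⟨M', hM', hle⟩ := Ideal.exists_le_maximal _ (w₀ : PrimeSpectrum A).isPrime.ne_top
      let w' : Spec (CommRingCat.of A) := (⟨M', hM'.isPrime⟩ : PrimeSpectrum A)
      have : w' = w₀ := ζ.isClosedEmbedding.injective
        ((hζclosed w' ((PrimeSpectrum.isClosed_singleton_iff_isMaximal _).2 hM')).trans hw₀.symm)
      rw [← this]; exact hM'
    · let w' : Spec (CommRingCat.of A) := (⟨J, hJ.isPrime⟩ : PrimeSpectrum A)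
      have : w' = w₀ := ζ.isClosedEmbedding.injective
        ((hζclosed w' ((PrimeSpectrum.isClosed_singleton_iff_isMaximal _).2 hJ)).trans hw₀.symm)
      exact congrArg PrimeSpectrum.asIdeal this
  have hmax : Ideal.comap (Ideal.Quotient.mk q) (IsLocalRing.maximalIdeal A) = mpt.asIdeal :=
    hcomap (IsLocalRing.closedPoint A) (hζclosed _ (IsLocalRing.isClosed_singleton_closedPoint A))
  letI : Algebra B S := XR.left.presheaf.algebra_section_stalk (⟨x, hxU'⟩ : U)
  haveI : IsLocalization.AtPrime S mpt.asIdeal := hU.isLocalization_stalk ⟨x, hxU'⟩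
  have hunit : ∀ s : mpt.asIdeal.primeCompl, IsUnit ((Ideal.Quotient.mk q) s.1) := fun s => by
    by_contra h
    exact s.2 (hmax.le ((IsLocalRing.mem_maximalIdeal _).2 h))
  let φ : S →+* A := IsLocalization.lift hunit
  have hφm : ∀ z ∈ IsLocalRing.maximalIdeal S, φ z ∈ IsLocalRing.maximalIdeal A := by
    rw [← IsLocalization.AtPrime.map_eq_maximalIdeal mpt.asIdeal S]
    show Ideal.map (algebraMap B S) mpt.asIdeal ≤ Ideal.comap φ (IsLocalRing.maximalIdeal A)
    refine Ideal.map_le_iff_le_comap.2 fun b hb => ?_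
    show φ (algebraMap B S b) ∈ IsLocalRing.maximalIdeal A
    rw [IsLocalization.lift_eq]
    exact hmax.ge hb
  have hφπ : φ (Models.stalkHom R XR x π) = algebraMap R A π := by
    rw [ArInter.stalkHom_eq_germ U x hxU' π]
    exact IsLocalization.lift_eq hunit _
  have hπA : algebraMap R A π ≠ 0 := fun h => by
    have hmem : φR π ∈ q := Ideal.Quotient.eq_zero_iff_mem.1 h
    refine hPF ?_
    show XR.hom P' = IsLocalRing.closedPoint R
    have e := IsAffineOpen.SpecMap_appLE_fromSpec XR.hom (isAffineOpen_top (Spec (CommRingCat.of R))) hU le_top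
    have hw : XR.hom (hU.fromSpec qpt) = Spec.map (CommRingCat.ofHom φR) qpt := by
      rw [← Scheme.Hom.comp_apply, ← e, IsAffineOpen.fromSpec_top, Scheme.isoSpec_Spec_inv, ← Spec.map_comp]
      rfl
    rw [IsAffineOpen.fromSpec_primeIdealOf] at hw
    rw [hw]
    refine PrimeSpectrum.ext ((IsLocalRing.maximalIdeal.isMaximal R).eq_of_le
      (Ideal.IsPrime.comap φR).ne_top (?_ : IsLocalRing.maximalIdeal R ≤ q.comap φR)).symm
    rw [hπ.maximalIdeal_eq, Ideal.span_singleton_le_iff_mem]
    exact hmem
  have hAinj : Function.Injective (algebraMap R A) := by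
    rw [RingHom.injective_iff_ker_eq_bot]
    by_contra hne
    haveI : (RingHom.ker (algebraMap R A)).IsPrime := RingHom.ker_isPrime _
    have := IsLocalRing.eq_maximalIdeal (Ideal.IsPrime.isMaximal inferInstance hne)
    exact hπA (RingHom.mem_ker.1 (this ▸ (IsLocalRing.mem_maximalIdeal π).2 hπ.not_isUnit))
  haveI : FaithfulSMul R A := (faithfulSMul_iff_algebraMap_injective R A).2 hAinj
  haveI : Module.IsTorsionFree R A := inferInstance
  haveI : Module.Free R A := inferInstance
  have hass' : Associated (∏ i, φ (g i) ^ a i) (algebraMap R A π) := by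
    have := hass.map φ
    simpa [map_prod, map_pow, hφπ] using this
  obtain ⟨c, hc1, hc⟩ := exists_weights hπ (fun i => φ (g i)) a hapos (fun i => hφm _ (hfm i)) hass' hπA
  refine ⟨c, hc1, ?_⟩
  simp only [ArInter.mult_eq hP hπ Γ hE hinj hZ hno]
  rw [← hc]
  -- the residue field
  let K := FractionRing R
  let L := FractionRing A
  haveI : FaithfulSMul R L := (faithfulSMul_iff_algebraMap_injective R L).2 (by
    rw [IsScalarTower.algebraMap_eq R A L]; exact (IsFractionRing.injective A L).comp hAinj)
  letI : Algebra K L := FractionRing.liftAlgebra R L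
  haveI : IsScalarTower R K L := FractionRing.isScalarTower_liftAlgebra R L
  have hKL : Module.finrank K L = Module.finrank R A := IsFractionRing.finrank_eq R K A L
  let j₁ : Spec (CommRingCat.of L) ⟶ XR.left := Spec.map (CommRingCat.ofHom (algebraMap A L)) ≫ ζ
  have hj₁ : j₁ ≫ XR.hom = Spec.map (CommRingCat.ofHom (algebraMap K L)) ≫
      Spec.map (CommRingCat.ofHom (algebraMap R K)) := by
    simp only [j₁, Category.assoc, hζp, ← Spec.map_comp, ← CommRingCat.ofHom_comp,
      ← IsScalarTower.algebraMap_eq]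
  let j := hiX.lift j₁ (Spec.map (CommRingCat.ofHom (algebraMap K L))) hj₁
  haveI : SurjectiveOnStalks (Spec.map (CommRingCat.ofHom (algebraMap A L))) :=
    SurjectiveOnStalks.Spec_iff.mpr (RingHom.surjectiveOnStalks_of_isLocalization (nonZeroDivisors A) L)
  haveI : SurjectiveOnStalks (j ≫ iX) := by rw [hiX.lift_fst]; infer_instance
  haveI : SurjectiveOnStalks j := SurjectiveOnStalks.of_comp j iX
  let y : Spec (CommRingCat.of L) := (⟨⊥, Ideal.isPrime_bot⟩ : PrimeSpectrum L)
  have hjy : j y = P := by
    apply iX.isOpenEmbedding.injective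
    rw [← Scheme.Hom.comp_apply, hiX.lift_fst]
    show ζ (Spec.map (CommRingCat.ofHom (algebraMap A L)) y) = iX P
    have h0 : Spec.map (CommRingCat.ofHom (algebraMap A L)) y = (⟨⊥, Ideal.isPrime_bot⟩ : PrimeSpectrum A) := by
      refine PrimeSpectrum.ext ?_
      show Ideal.comap (algebraMap A L) ⊥ = ⊥
      rw [← RingHom.ker_eq_comap_bot]
      exact (RingHom.injective_iff_ker_eq_bot _).1 (IsFractionRing.injective A L)
    rw [h0]
    show hU.fromSpec _ = P'
    have h1 : Spec.map (CommRingCat.ofHom (Ideal.Quotient.mk q)) (⟨⊥, Ideal.isPrime_bot⟩ : PrimeSpectrum A) = qpt := by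
      refine PrimeSpectrum.ext ?_
      show Ideal.comap (Ideal.Quotient.mk q) ⊥ = q
      rw [← RingHom.ker_eq_comap_bot, Ideal.mk_ker]
    refine (congrArg hU.fromSpec h1).trans ?_
    rw [IsAffineOpen.fromSpec_primeIdealOf]
  have hdeg : fC.residueDegree P = Module.finrank K L := by
    have e1 : fC.residueDegree (j y) = (j ≫ fC).residueDegree y := (Zeta25.residueDegree_comp fC j y).symm
    rw [hjy] at e1
    rw [e1, show j ≫ fC = Spec.map (CommRingCat.ofHom (algebraMap K L)) from hiX.lift_snd _ _ _]
    exact PtNorm19.residueDegree_map K L y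
  have halg : Curv2.resAlgebra (FractionRing R) C P = VarDim.resAlg fC P := rfl
  rw [halg, ← hKL, ← hdeg]
  exact (WeilH13.residueDegree_eq_finrank fC P).symm

end Groth.Agent.HorizDiv
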